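import Cfsg.Agent.H750.Aligned
import Cfsg.Agent.H802.FusAlp
set_option linter.all false

/-!
# The saturation criterion, first part: arrows between the members of a conjugacy class
-/

set_option autoImplicit false

namespace Cfsg.Agent.H750

open Cfsg Cfsg.FusionSystem Cfsg.Agent.H802

variable {Ω : Type*} [Group Ω] {S : Subgroup Ω}

theorem Iso.inv_restrict {F : FusionSystem S} {R R' Q Q' : Subgroup Ω} {f : Ω → Ω}
    (hR : Iso F R R' f) (hQ : Iso F Q Q' f) (hQR : Q ≤ R) :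
    ∃ g, Iso F R' R g ∧ Iso F Q' Q g ∧ (∀ x ∈ R, g (f x) = x) ∧ ∀ y ∈ R', f (g y) = y := by
  obtain ⟨g, hg, hgf, hfg⟩ := hR.exists_inv
  have hQ'R' : Q' ≤ R' := by
    intro y hy
    obtain ⟨x, hx, rfl⟩ := hQ.surj hy
    exact hR.mem (hQR hx)
  refine ⟨g, hg, hg.restrict_of hQ'R' (fun y => ⟨fun hy => ⟨f y, hQ.mem hy, hgf y (hQR hy)⟩, ?_⟩), hgf, hfg⟩
  rintro ⟨x, hx, rfl⟩
  obtain ⟨z, hz, rfl⟩ := hQ.surj hx
  rwa [hgf z (hQR hz)]

theorem Iso.le_of_le {F : FusionSystem S} {R R' Q Q' : Subgroup Ω} {f : Ω → Ω}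
    (hR : Iso F R R' f) (hQ : Iso F Q Q' f) (hQR : Q ≤ R) : Q' ≤ R' := by
  intro y hy
  obtain ⟨x, hx, rfl⟩ := hQ.surj hy
  exact hR.mem (hQR hx)

theorem Iso.mem_iff_mem {F : FusionSystem S} {R R' Q Q' : Subgroup Ω} {f : Ω → Ω}
    (hR : Iso F R R' f) (hQ : Iso F Q Q' f) (hQR : Q ≤ R) {x : Ω} (hx : x ∈ R) : f x ∈ Q' ↔ x ∈ Q := by
  refine ⟨fun h => ?_, fun h => hQ.mem h⟩
  obtain ⟨y, hy, hye⟩ := hQ.surj h
  have := hR.inj (hQR hy) hx hye
  rwa [← this]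

theorem card_le_of_le [Finite S] {P Q : Subgroup Ω} (hQ : Q ≤ S) (h : P ≤ Q) : Nat.card P ≤ Nat.card Q := by
  have : Finite Q := finite_of_le hQ
  exact Nat.card_mono (Set.toFinite _) h

theorem card_lt_of_lt [Finite S] {P Q : Subgroup Ω} (hQ : Q ≤ S) (h : P < Q) : Nat.card P < Nat.card Q := by
  have : Finite Q := finite_of_le hQ
  exact lt_of_not_ge (fun hc => h.ne (Subgroup.eq_of_le_of_card_ge h.le hc))

theorem eq_of_le_of_card [Finite S] {P Q : Subgroup Ω} (hQ : Q ≤ S) (h : P ≤ Q)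
    (hc : Nat.card Q ≤ Nat.card P) : P = Q := by
  have : Finite Q := finite_of_le hQ
  exact Subgroup.eq_of_le_of_card_ge h hc

/-- There is a map of the system on `N_S(Q)` carrying `Q` onto `Q'`. -/
def Arr (F : FusionSystem S) (Q Q' : Subgroup Ω) : Prop :=
  ∃ f N', Iso F (normalizerIn S Q) N' f ∧ Iso F Q Q' f

variable {F : FusionSystem S}

theorem Arr.refl {Q : Subgroup Ω} (hQ : Q ≤ S) : Arr F Q Q :=
  ⟨id, normalizerIn S Q, Iso.refl F inf_le_left, Iso.refl F hQ⟩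

theorem Arr.trans {Q Q' Q'' : Subgroup Ω} (h : Arr F Q Q') (h' : Arr F Q' Q'') : Arr F Q Q'' := by
  obtain ⟨f, N', hf, hQ⟩ := h
  obtain ⟨g, M, hg, hQ'⟩ := h'
  have hN' : N' ≤ normalizerIn S Q' := hf.le_normalizerIn hQ (le_normalizerIn hQ.le_left) inf_le_right
  obtain ⟨M', hM', -⟩ := hg.restrict hN'
  exact ⟨g ∘ f, M', hf.trans hM', hQ.trans hQ'⟩

theorem Arr.card_le [Finite S] {Q Q' : Subgroup Ω} (h : Arr F Q Q') :
    Nat.card (normalizerIn S Q) ≤ Nat.card (normalizerIn S Q') := by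
  obtain ⟨f, N', hf, hQ⟩ := h
  rw [hf.card_eq]
  exact card_le_of_le inf_le_left (hf.le_normalizerIn hQ (le_normalizerIn hQ.le_left) inf_le_right)

theorem Arr.symm_of_card [Finite S] {Q Q' : Subgroup Ω} (h : Arr F Q Q')
    (hc : Nat.card (normalizerIn S Q') ≤ Nat.card (normalizerIn S Q)) : Arr F Q' Q := by
  obtain ⟨f, N', hf, hQ⟩ := h
  have hN' : N' = normalizerIn S Q' := by
    refine eq_of_le_of_card inf_le_left
      (hf.le_normalizerIn hQ (le_normalizerIn hQ.le_left) inf_le_right) ?_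
    rwa [← hf.card_eq]
  rw [hN'] at hf
  obtain ⟨g, hg, hgQ, -, -⟩ := hf.inv_restrict hQ (le_normalizerIn hQ.le_left)
  exact ⟨g, _, hg, hgQ⟩

theorem Arr.isConj {Q Q' : Subgroup Ω} (h : Arr F Q Q') : F.IsConj Q Q' := by
  obtain ⟨f, N', hf, hQ⟩ := h
  exact hQ.isConj

/-- Every subgroup of order larger than `n` is conjugate to a fully automized receptive one. -/
def Big (p : ℕ) (F : FusionSystem S) (n : ℕ) : Prop :=
  ∀ R : Subgroup Ω, R ≤ S → n < Nat.card R → ∃ R₀, F.IsConj R R₀ ∧ F.IsFullyAutomized p R₀ ∧ F.IsReceptive R₀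

theorem lt_common {p : ℕ} [Fact p.Prime] [Finite S] (hS : IsPGroup p S) {R Q : Subgroup Ω}
    (hRN : R ≤ normalizerIn S Q) (hne : R ≠ normalizerIn S Q) :
    Nat.card R < Nat.card (normalizerIn S R ⊓ normalizerIn S Q : Subgroup Ω) := by
  obtain ⟨g, hg, hgR, hgn⟩ := H759.exists_mem_normalizer_not_mem hS (inf_le_left : normalizerIn S Q ≤ S)
    (lt_of_le_of_ne hRN hne)
  have h1 : R ≤ normalizerIn S R ⊓ normalizerIn S Q :=
    le_inf (le_normalizerIn (hRN.trans inf_le_left)) hRN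
  refine card_lt_of_lt (S := S) (inf_le_left.trans inf_le_left) (lt_of_le_of_ne h1 ?_)
  intro h
  apply hgR
  rw [h]
  exact ⟨⟨hg.1, hgn⟩, hg⟩

theorem exists_common {p : ℕ} [Fact p.Prime] [Finite S] (hS : IsPGroup p S) {n : ℕ} (hbig : Big p F n) :
    ∀ (m : ℕ) (Q Q' R R' : Subgroup Ω) (f : Ω → Ω), Nat.card S - Nat.card R ≤ m → n < Nat.card R →
      Q ≤ R → R ≤ normalizerIn S Q → Iso F R R' f → Iso F Q Q' f → ∃ Q₃, Arr F Q Q₃ ∧ Arr F Q' Q₃ := by
  intro m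
  induction m with
  | zero =>
    intro Q Q' R R' f hm hn hQR hRN hf hfQ
    have h1 : R = S := by
      apply eq_of_le_card_eq hf.le_left
      have := card_le_of_le le_rfl hf.le_left
      omega
    have h2 : R = normalizerIn S Q := le_antisymm hRN (by rw [h1]; exact inf_le_left)
    rw [h2] at hf
    exact ⟨Q', ⟨f, R', hf, hfQ⟩, Arr.refl hfQ.le_right⟩
  | succ m ih =>
    intro Q Q' R R' f hm hn hQR hRN hf hfQ
    by_cases h2 : R = normalizerIn S Q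
    · rw [h2] at hf
      exact ⟨Q', ⟨f, R', hf, hfQ⟩, Arr.refl hfQ.le_right⟩
    have hR'N : R' ≤ normalizerIn S Q' := hf.le_normalizerIn hfQ hQR (hRN.trans inf_le_right)
    obtain ⟨g, hg, hgQ, hgf, hfg⟩ := hf.inv_restrict hfQ hQR
    by_cases h3 : R' = normalizerIn S Q'
    · rw [h3] at hg
      exact ⟨Q, Arr.refl hfQ.le_left, ⟨g, R, hg, hgQ⟩⟩
    obtain ⟨R₀, hRR₀, hR₀a, hR₀r⟩ := hbig R hf.le_left hn
    obtain ⟨χ, Q₁, hχ, hχQ, hal⟩ := exists_aligned hS hRR₀ hR₀a hQR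
    have hc1 := lt_common hS hRN h2
    have hc2 := lt_common hS hR'N h3
    have hRS : R ≤ S := hf.le_left
    have hR'S : R' ≤ S := hf.le_right
    obtain ⟨-, -, N₁', f₁, hf₁, hf₁R, hf₁Q, -⟩ := exists_ext_stab hS hχ hχQ hQR hR₀r hal
      (normalizerIn S R ⊓ normalizerIn S Q) (le_inf (le_normalizerIn hRS) hRN) inf_le_left inf_le_right
    obtain ⟨-, -, N₂', f₂, hf₂, hf₂R, hf₂Q, -⟩ := exists_ext_stab hS (hg.trans hχ) (hgQ.trans hχQ)
      (hf.le_of_le hfQ hQR) hR₀r hal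
      (normalizerIn S R' ⊓ normalizerIn S Q') (le_inf (le_normalizerIn hR'S) hR'N) inf_le_left inf_le_right
    have hN₁S : (normalizerIn S R ⊓ normalizerIn S Q : Subgroup Ω) ≤ S := inf_le_left.trans inf_le_left
    have hcR := hf.card_eq
    obtain ⟨Q₄, h4, h4'⟩ := ih Q Q₁ _ N₁' f₁ (by omega) (by omega)
      (le_inf (hQR.trans (le_normalizerIn hRS)) (le_normalizerIn hfQ.le_left)) inf_le_right hf₁ hf₁Q
    obtain ⟨Q₅, h5, h5'⟩ := ih Q' Q₁ _ N₂' f₂ (by omega) (by omega)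
      (le_inf ((hf.le_of_le hfQ hQR).trans (le_normalizerIn hR'S)) (le_normalizerIn hfQ.le_right))
      inf_le_right hf₂ hf₂Q
    obtain ⟨ω₄, M₄, hω₄, hω₄Q⟩ := id h4'
    obtain ⟨ω₅, M₅, hω₅, hω₅Q⟩ := id h5'
    have hQ₁S : Q₁ ≤ S := hχQ.le_right
    obtain ⟨g₄, hg₄, hg₄Q, -, -⟩ := hω₄.inv_restrict hω₄Q (le_normalizerIn hQ₁S)
    have hM₄N : M₄ ≤ normalizerIn S Q₄ :=
      hω₄.le_normalizerIn hω₄Q (le_normalizerIn hQ₁S) inf_le_right
    have hN₁' : N₁' ≤ normalizerIn S Q₁ := hf₁.le_normalizerIn hf₁Q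
      (le_inf (hQR.trans (le_normalizerIn hRS)) (le_normalizerIn hfQ.le_left))
      (inf_le_right.trans inf_le_right)
    have hcM : Nat.card (normalizerIn S R ⊓ normalizerIn S Q : Subgroup Ω) ≤ Nat.card M₄ := by
      rw [← hω₄.card_eq, hf₁.card_eq]
      exact card_le_of_le inf_le_left hN₁'
    obtain ⟨Q₆, h6, h6'⟩ := ih Q₄ Q₅ M₄ M₅ (ω₅ ∘ g₄) (by omega) (by omega)
      (hω₄.le_of_le hω₄Q (le_normalizerIn hQ₁S)) hM₄N (hg₄.trans hω₅) (hg₄Q.trans hω₅Q)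
    exact ⟨Q₆, h4.trans h6, h5.trans h6'⟩

theorem diamond {p : ℕ} [Fact p.Prime] [Finite S] (hS : IsPGroup p S) {n : ℕ} (hbig : Big p F n)
    {Q Q₁ Q₂ : Subgroup Ω} (h1 : Arr F Q Q₁) (h2 : Arr F Q Q₂) (hn : n < Nat.card (normalizerIn S Q)) :
    ∃ Q₃, Arr F Q₁ Q₃ ∧ Arr F Q₂ Q₃ := by
  obtain ⟨ω₄, M₄, hω₄, hω₄Q⟩ := id h1
  obtain ⟨ω₅, M₅, hω₅, hω₅Q⟩ := id h2
  have hQS : Q ≤ S := hω₄Q.le_left
  obtain ⟨g₄, hg₄, hg₄Q, -, -⟩ := hω₄.inv_restrict hω₄Q (le_normalizerIn hQS)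
  have hM₄N : M₄ ≤ normalizerIn S Q₁ :=
    hω₄.le_normalizerIn hω₄Q (le_normalizerIn hQS) inf_le_right
  refine exists_common hS hbig _ Q₁ Q₂ M₄ M₅ (ω₅ ∘ g₄) le_rfl ?_
    (hω₄.le_of_le hω₄Q (le_normalizerIn hQS)) hM₄N (hg₄.trans hω₅) (hg₄Q.trans hω₅Q)
  rw [← hω₄.card_eq]
  exact hn

/-! ### Generated maps -/

/-- The maps between members of the conjugacy class which are composites of restrictions of maps on properly
larger subgroups. -/
inductive Gen (F : FusionSystem S) : Subgroup Ω → Subgroup Ω → (Ω → Ω) → Prop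
  | base (Q Q' R R' : Subgroup Ω) (f h : Ω → Ω) : Q < R → Iso F R R' f → Iso F Q Q' h →
      (∀ x ∈ Q, h x = f x) → Gen F Q Q' h
  | comp (Q Q' Q'' : Subgroup Ω) (f g h : Ω → Ω) : Gen F Q Q' f → Gen F Q' Q'' g →
      (∀ x ∈ Q, h x = g (f x)) → Gen F Q Q'' h

theorem Gen.iso {Q Q' : Subgroup Ω} {f : Ω → Ω} (h : Gen F Q Q' f) : Iso F Q Q' f := by
  induction h with
  | base Q Q' R R' f h _ _ h3 _ => exact h3
  | comp Q Q' Q'' f g h _ _ h3 ih1 ih2 => exact (ih1.trans ih2).congr h3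

theorem Gen.cast {Q₁ Q₂ Q₁' Q₂' : Subgroup Ω} {f : Ω → Ω} (h : Gen F Q₁ Q₁' f) (h1 : Q₁ = Q₂)
    (h2 : Q₁' = Q₂') : Gen F Q₂ Q₂' f := by
  subst h1 h2
  exact h

theorem Gen.congr {Q Q' : Subgroup Ω} {f g : Ω → Ω} (h : Gen F Q Q' f) (he : ∀ x ∈ Q, g x = f x) :
    Gen F Q Q' g := by
  cases h with
  | base _ _ R R' f₁ _ h1 h2 h3 h4 =>
    exact Gen.base Q Q' R R' f₁ g h1 h2 (h3.congr he) (fun x hx => by rw [he x hx, h4 x hx])
  | comp _ Q₁ _ f₁ g₁ _ h1 h2 h3 =>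
    exact Gen.comp Q Q₁ Q' f₁ g₁ g h1 h2 (fun x hx => by rw [he x hx, h3 x hx])

theorem Gen.symm {Q Q' : Subgroup Ω} {f : Ω → Ω} (h : Gen F Q Q' f) :
    ∃ g, Gen F Q' Q g ∧ (∀ x ∈ Q, g (f x) = x) := by
  induction h with
  | base Q Q' R R' f h h1 h2 h3 h4 =>
    have h5 : Iso F Q Q' f := h3.congr (fun x hx => (h4 x hx).symm)
    obtain ⟨g, hg, hgQ, hgf, hfg⟩ := h2.inv_restrict h5 h1.le
    refine ⟨g, Gen.base Q' Q R' R g g ?_ hg hgQ (fun x _ => rfl), fun x hx => ?_⟩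
    · refine lt_of_le_of_ne (h2.le_of_le h5 h1.le) ?_
      rintro rfl
      apply h1.ne
      refine le_antisymm h1.le (fun x hx => ?_)
      exact (h2.mem_iff_mem h5 h1.le hx).1 (h2.mem hx)
    · rw [h4 x hx, hgf x (h1.le hx)]
  | comp Q Q' Q'' f g h h1 h2 h3 ih1 ih2 =>
    obtain ⟨f', hf', hf'f⟩ := ih1
    obtain ⟨g', hg', hg'g⟩ := ih2
    refine ⟨f' ∘ g', Gen.comp Q'' Q' Q g' f' _ hg' hf' (fun x _ => rfl), fun x hx => ?_⟩
    show f' (g' (h x)) = x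
    rw [h3 x hx, hg'g _ (h1.iso.mem hx), hf'f x hx]

/-- Generation: if `F` is generated by its maps on the members of `ℋ`, and no conjugate of `P` is in `ℋ`, then
all maps between conjugates of `P` are generated by restrictions from properly larger subgroups. -/
theorem gen_of_generated [Finite S] {P : Subgroup Ω} (hPS : Nat.card P < Nat.card S) (ℋ : Set (Subgroup Ω))
    (hnot : ∀ Q, F.IsConj P Q → Q ∉ ℋ)
    (hgen : ∀ E : FusionSystem S, (∀ X ∈ ℋ, F.Hom X ⊆ E.Hom X) → F ≤ E)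
    {Q Q' : Subgroup Ω} {f : Ω → Ω} (hQ : F.IsConj P Q) (hf : Iso F Q Q' f) : Gen F Q Q' f := by
  let E : FusionSystem S :=
    { Hom := fun X => {φ | φ ∈ F.Hom X ∧ (F.IsConj P X → ∀ f : Ω → Ω,
        (∀ (x : Ω) (hx : x ∈ X), f x = φ ⟨x, hx⟩) → Gen F X φ.range f)}
      le_of_mem := fun h => F.le_of_mem h.1
      injective_of_mem := fun h => F.injective_of_mem h.1
      conj_mem := by
        intro X g hX hg
        refine ⟨F.conj_mem hX hg, fun hc f hf => ?_⟩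
        have hlt : X < S := by
          refine lt_of_le_of_ne hX ?_
          rintro rfl
          rw [isConj_card_eq hc] at hPS
          exact lt_irrefl _ hPS
        have hgn : g ∈ Subgroup.normalizer (S : Set Ω) := Subgroup.le_normalizer hg
        exact Gen.base X _ S S (fun x => g * x * g⁻¹) f hlt (iso_conj F le_rfl hg hgn)
          (iso_of_hom (F.conj_mem hX hg) hf) (fun x hx => hf x hx)
      comp_mem := by
        rintro X Y φ ψ ⟨hφ, hφg⟩ ⟨hψ, hψg⟩ h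
        refine ⟨F.comp_mem hφ hψ h, fun hc k hk => ?_⟩
        obtain ⟨a, ha⟩ := exists_fun φ
        obtain ⟨b, hb⟩ := exists_fun ψ
        have hA := hφg hc a ha
        have hka : ∀ x ∈ X, k x = b (a x) := by
          intro x hx
          have h1 : a x ∈ Y := by rw [ha x hx]; exact h _
          rw [hk x hx, hb _ h1]
          show ψ ⟨φ ⟨x, hx⟩, _⟩ = ψ ⟨a x, h1⟩
          congr 1
          exact Subtype.ext (ha x hx).symm
        have hbY : Iso F Y ψ.range b := iso_of_hom hψ hb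
        have hZY : φ.range ≤ Y := by
          rintro _ ⟨x, rfl⟩
          exact h x
        have hK : Iso F X (ψ.comp (φ.codRestrict Y h)).range k := iso_of_hom (F.comp_mem hφ hψ h) hk
        have hbZ : Iso F φ.range (ψ.comp (φ.codRestrict Y h)).range b := by
          refine hbY.restrict_of hZY (fun y => ?_)
          rw [hK.mem_iff]
          constructor
          · rintro ⟨x, hx, rfl⟩
            exact ⟨a x, hA.iso.mem hx, (hka x hx).symm⟩
          · rintro ⟨z, hz, rfl⟩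
            obtain ⟨x, hx, rfl⟩ := hA.iso.surj hz
            exact ⟨x, hx, hka x hx⟩
        refine Gen.comp X φ.range _ a b k hA ?_ hka
        by_cases hZ : φ.range = Y
        · have h2 : F.IsConj P Y := by
            rw [← hZ]
            exact isConj_trans hc (isConj_range hφ)
          have h3 := hψg h2 b hb
          have h4 : Gen F φ.range ψ.range b := h3.cast hZ.symm rfl
          exact h4.cast rfl (h4.iso.eq_of hbZ)
        · exact Gen.base _ _ Y ψ.range b b (lt_of_le_of_ne hZY hZ) hbY hbZ (fun x _ => rfl)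
      inv_mem := by
        rintro X φ ⟨hφ, hφg⟩
        obtain ⟨ψ, hψ, hψe⟩ := F.inv_mem hφ
        refine ⟨ψ, ⟨hψ, fun hc k hk => ?_⟩, hψe⟩
        have hcX : F.IsConj P X := isConj_trans hc (isConj_symm (isConj_range hφ))
        obtain ⟨a, ha⟩ := exists_fun φ
        have hA := hφg hcX a ha
        obtain ⟨b, hB, hba⟩ := hA.symm
        have hkb : ∀ x ∈ φ.range, k x = b x := by
          intro x hx
          obtain ⟨y, hy, rfl⟩ := hA.iso.surj hx
          rw [hba y hy, hk _ hx]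
          have h3 := hψe ⟨y, hy⟩
          have h4 : (⟨a y, hx⟩ : φ.range) = ⟨φ ⟨y, hy⟩, MonoidHom.mem_range.2 ⟨_, rfl⟩⟩ :=
            Subtype.ext (ha y hy)
          rw [h4]
          exact h3
        have h1 := hB.congr hkb
        have h2 : Iso F φ.range ψ.range k := iso_of_hom hψ hk
        exact h1.cast rfl (h1.iso.eq_of h2) }
  have hle : F ≤ E := hgen E (fun X hX φ hφ => ⟨hφ, fun hc => absurd hX (hnot X hc)⟩)
  obtain ⟨φ, hφ, hr, hfe⟩ := hf
  have h1 := (hle Q hφ).2 hQ f (fun x hx => (hfe x hx).symm)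
  rwa [hr] at h1

theorem arr_of_gen {p : ℕ} [Fact p.Prime] [Finite S] (hS : IsPGroup p S) {n : ℕ} (hbig : Big p F n)
    (hn : n < Nat.card S) {Q Q' : Subgroup Ω} {f : Ω → Ω} (h : Gen F Q Q' f) (hQ : Nat.card Q = n) :
    ∃ Q₃, Arr F Q Q₃ ∧ Arr F Q' Q₃ := by
  induction h with
  | base Q Q' R R' f h h1 h2 h3 h4 =>
    have h5 : Iso F Q Q' f := h3.congr (fun x hx => (h4 x hx).symm)
    obtain ⟨g, hg, hgQ, hgn⟩ := H759.exists_mem_normalizer_not_mem hS h2.le_left h1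
    obtain ⟨R₁', hR₁', -⟩ := h2.restrict (R := R ⊓ normalizerIn S Q) inf_le_left
    have hle : Q ≤ R ⊓ normalizerIn S Q := le_inf h1.le (le_normalizerIn h3.le_left)
    have hlt : Q < R ⊓ normalizerIn S Q := by
      refine lt_of_le_of_ne hle (fun he => hgQ ?_)
      rw [he]
      exact ⟨hg, h2.le_left hg, hgn⟩
    refine exists_common hS hbig _ Q Q' _ R₁' f le_rfl ?_ hle inf_le_right hR₁' h5
    rw [← hQ]
    exact card_lt_of_lt (inf_le_left.trans h2.le_left) hlt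
  | comp Q Q' Q'' f g h h1 h2 h3 ih1 ih2 =>
    have hQ' : Nat.card Q' = n := by rw [← h1.iso.card_eq, hQ]
    obtain ⟨Q₃, h3, h3'⟩ := ih1 hQ
    obtain ⟨Q₄, h4, h4'⟩ := ih2 hQ'
    have hne : Q' ≠ S := by
      rintro rfl
      omega
    obtain ⟨Q₅, h5, h5'⟩ := diamond hS hbig h3' h4 (by
      rw [← hQ']
      exact card_lt_card_normalizerIn hS h1.iso.le_right hne)
    exact ⟨Q₅, h3.trans h5, h4'.trans h5'⟩

/-- A conjugate `P₀` of `P` to which every conjugate of `P` has an arrow. -/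
theorem exists_top {p : ℕ} [Fact p.Prime] [Finite S] (hS : IsPGroup p S) {P : Subgroup Ω} (hPS : P ≤ S)
    (hbig : Big p F (Nat.card P)) (hn : Nat.card P < Nat.card S)
    (hgen : ∀ (Q Q' : Subgroup Ω) (f : Ω → Ω), F.IsConj P Q → Iso F Q Q' f → Gen F Q Q' f) :
    ∃ P₀, F.IsConj P P₀ ∧ ∀ Q, F.IsConj P Q → Arr F Q P₀ := by
  obtain ⟨P₀, hP₀, hmin⟩ := WellFounded.has_min
    (measure (fun Q : Subgroup Ω => Nat.card S - Nat.card (normalizerIn S Q))).wf
    {Q | F.IsConj P Q} ⟨P, isConj_refl F hPS⟩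
  refine ⟨P₀, hP₀, fun Q hQ => ?_⟩
  have hP₀' : F.IsConj P P₀ := hP₀
  obtain ⟨f, hf⟩ := exists_iso_of_isConj (isConj_trans (isConj_symm hQ) hP₀')
  obtain ⟨Y, h1, h2⟩ := arr_of_gen hS hbig hn (hgen Q P₀ f hQ hf) (isConj_card_eq hQ).symm
  refine h1.trans (h2.symm_of_card ?_)
  have h3 := hmin Y (isConj_trans hP₀' h2.isConj)
  have h4 : Nat.card (normalizerIn S Y) ≤ Nat.card S := card_le_of_le le_rfl inf_le_left
  have h5 : Nat.card (normalizerIn S P₀) ≤ Nat.card S := card_le_of_le le_rfl inf_le_left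
  have h6 : ¬ (Nat.card S - Nat.card (normalizerIn S Y) < Nat.card S - Nat.card (normalizerIn S P₀)) := h3
  omega

end Cfsg.Agent.H750
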